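import Groth.Prelude.Def_RelProj3
import Groth.Agent.RelTwistX.Loc
import Groth.Agent.RelTildeX.Twist
import Groth.Agent.GrModX.Stalk

/-!
# The modules `M(n)~` under a localization at a degree zero element
-/

universe u

open CategoryTheory AlgebraicGeometry TopologicalSpace Opposite TopCat
open scoped HomogeneousIdeal

set_option backward.isDefEq.respectTransparency false
set_option backward.isDefEq.respectTransparency.types false
set_option linter.style.haveILetI false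
set_option linter.unusedSectionVars false

namespace Groth.Agent.RelTildeX.TildeLoc

open Groth.Agent.GrModX

variable {A σ : Type u} [CommRing A] [SetLike σ A] [AddSubgroupClass σ A] {𝒜 : ℕ → σ} [GradedRing 𝒜]
  {B τ : Type u} [CommRing B] [SetLike τ B] [AddSubgroupClass τ B] {ℬ : ℕ → τ} [GradedRing ℬ]
  {M : Type u} [AddCommGroup M] [Module A M] {ℳ : ℕ → AddSubgroup M} [SetLike.GradedSMul 𝒜 ℳ]
  [DirectSum.Decomposition ℳ]
  {N : Type u} [AddCommGroup N] [Module B N] {𝒩 : ℕ → AddSubgroup N} [SetLike.GradedSMul ℬ 𝒩]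
  [DirectSum.Decomposition 𝒩]
  (ψ : 𝒜 →+*ᵍ ℬ) (hψ : ℬ₊ ≤ (𝒜₊).map ψ) (v : M →ₛₗ[ψ.toRingHom] N)
  (hv : ∀ (i : ℕ) (m : M), m ∈ ℳ i → v m ∈ 𝒩 i) {c : A} (hc : c ∈ 𝒜 0)
  (hloc : letI := (ψ : A →+* B).toAlgebra; IsLocalization.Away c B)
  (hsurj : ∀ x : N, ∃ (k : ℕ) (m : M), v m = ψ (c ^ k) • x)
  (heq : ∀ m : M, v m = 0 → ∃ k : ℕ, c ^ k • m = 0)

include hloc heq in
theorem locModMap_injective (y : ProjectiveSpectrum ℬ) : Function.Injective (GrMod.locModMap ψ hψ v y) := by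
  letI := (ψ : A →+* B).toAlgebra
  refine (injective_iff_map_eq_zero _).2 fun q hq => ?_
  induction q using LocalizedModule.induction_on with
  | h m s =>
    rw [GrMod.locModMap_mk, GrModX.mk_eq_zero_iff] at hq
    obtain ⟨t, ht, h0⟩ := hq
    obtain ⟨⟨b, p, hp⟩, hbp⟩ := IsLocalization.surj (Submonoid.powers c) t
    obtain ⟨k, rfl⟩ := (Submonoid.mem_powers_iff _ _).1 hp
    change t * ψ (c ^ k) = ψ b at hbp
    obtain ⟨l, hl⟩ := heq (b • m) (by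
      rw [map_smulₛₗ]
      change ψ b • v m = 0
      rw [← hbp, mul_comm, mul_smul, h0, smul_zero])
    refine (GrModX.mk_eq_zero_iff 𝒜 _ m s).2 ⟨c ^ l * b,
      RelTwistX.notMem_prime_mul (RelTwistX.notMem_map ψ hψ hloc y l) (fun h => ?_), by rw [mul_smul, hl]⟩
    have h' : t * ψ (c ^ k) ∈ y.asHomogeneousIdeal.toIdeal := hbp ▸ h
    rcases y.isPrime.mem_or_mem h' with h3 | h3
    · exact ht h3
    · exact RelTwistX.notMem_map ψ hψ hloc y k h3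

include hc hsurj hv in
theorem exists_hom_preimage {i : ℕ} {x : N} (hx : x ∈ 𝒩 i) :
    ∃ k, ∃ m ∈ ℳ i, v m = ψ (c ^ k) • x := by
  classical
  obtain ⟨k, m, hm⟩ := hsurj x
  have hck : ψ (c ^ k) ∈ ℬ 0 := by
    refine ψ.map_mem ?_
    simpa using SetLike.pow_mem_graded k hc
  have hmem : ψ (c ^ k) • x ∈ 𝒩 i := by
    have h := SetLike.GradedSMul.smul_mem (A := ℬ) hck hx
    rwa [vadd_eq_add, zero_add] at h
  refine ⟨k, _, SetLike.coe_mem (DirectSum.decompose ℳ m i), ?_⟩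
  exact (RelTildeX.map_decompose' v.toAddMonoidHom ℳ 𝒩 hv m i).trans
    (by rw [LinearMap.toAddMonoidHom_coe, hm, DirectSum.decompose_of_mem_same _ hmem])

include hc hloc hsurj hv in
theorem exists_frac_preimage {n : ℤ} {V : (Proj ℬ).Opens} (t : Γ(GrMod.tilde ℬ 𝒩 n, V)) (y : V) :
    ∃ (V' : (Proj ℬ).Opens) (hV' : V' ≤ V) (i j : ℕ) (a : ℳ i) (q : 𝒜 j)
      (hq : ∀ z : V', (q : A) ∉ (ProjectiveSpectrum.comap ψ hψ z.1).asHomogeneousIdeal),
      y.1 ∈ V' ∧ ((i : ℤ) = j + n ∨ (a : M) = 0) ∧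
      ∀ z : V', GrMod.val t ⟨z.1, hV' z.2⟩ =
        GrMod.locModMap ψ hψ v z.1 (LocalizedModule.mk (a : M) ⟨q, hq z⟩) := by
  obtain ⟨V', hy, e, i, j, b, s, hs, hd, he⟩ := t.2 y
  obtain ⟨k', a', ha', hψa'⟩ := RelTwistX.exists_hom_preimage ψ hc hloc s.2
  obtain ⟨k, a, ha, hψa, hd'⟩ : ∃ k, ∃ a ∈ ℳ i, v a = ψ (c ^ k) • (b : N) ∧ ((i : ℤ) = j + n ∨ a = 0) := by
    rcases hd with hd | hd
    · obtain ⟨k, a, ha, h⟩ := exists_hom_preimage ψ v hv hc hsurj b.2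
      exact ⟨k, a, ha, h, Or.inl hd⟩
    · exact ⟨0, 0, zero_mem _, by rw [map_zero, hd, smul_zero], Or.inr rfl⟩
  have hck : ∀ m, c ^ m ∈ 𝒜 0 := fun m => by simpa using SetLike.pow_mem_graded m hc
  refine ⟨V', e.le, i, j, ⟨c ^ k' • a, by
      have h := SetLike.GradedSMul.smul_mem (A := 𝒜) (hck k') ha
      rwa [vadd_eq_add, zero_add] at h⟩,
    ⟨a' * c ^ k, by simpa using SetLike.mul_mem_graded ha' (hck k)⟩, fun z => ?_, hy, ?_, fun z => ?_⟩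
  · refine RelTwistX.notMem_prime_mul (fun h => ?_) (RelTwistX.notMem_map ψ hψ hloc z.1 k)
    have h' : (s : B) * ψ (c ^ k') ∈ z.1.asHomogeneousIdeal.toIdeal := hψa' ▸ h
    rcases z.1.isPrime.mem_or_mem h' with h3 | h3
    · exact hs z h3
    · exact RelTwistX.notMem_map ψ hψ hloc z.1 k' h3
  · rcases hd' with h | h
    · exact Or.inl h
    · exact Or.inr (show c ^ k' • a = 0 by rw [h, smul_zero])
  · refine (he z).trans ?_
    rw [GrMod.locModMap_mk]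
    refine LocalizedModule.mk_eq.mpr ⟨1, ?_⟩
    simp only [one_smul, Submonoid.smul_def, map_mul, map_smulₛₗ, hψa, hψa', smul_smul]
    change _ = ((s : B) * (ψ (c ^ k') * ψ (c ^ k))) • (b : N)
    ring_nf

theorem comapApp_smul_eq (n : ℤ) (U : Opens (ProjectiveSpectrum.top 𝒜)) (V : Opens (ProjectiveSpectrum.top ℬ))
    (hUV : V.1 ⊆ ProjectiveSpectrum.comap ψ hψ ⁻¹' U.1) (r : GrTwist.O (𝒜 := 𝒜) (op U))
    (r' : GrTwist.O (𝒜 := ℬ) (op V)) (h : Proj.comapStructureSheaf ψ hψ U V hUV r = r')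
    (s : GrMod.sect 𝒜 ℳ n (op U)) :
    GrMod.comapApp ψ hψ v hv n U V hUV (r • s) = r' • GrMod.comapApp ψ hψ v hv n U V hUV s :=
  h ▸ GrMod.comapApp_smul ψ hψ v hv n U V hUV r s

theorem comapApp_injective (hinj : ∀ y, Function.Injective (GrMod.locModMap ψ hψ v y)) (n : ℤ)
    (U : Opens (ProjectiveSpectrum.top 𝒜)) (V : Opens (ProjectiveSpectrum.top ℬ))
    (hUV : V.1 ⊆ ProjectiveSpectrum.comap ψ hψ ⁻¹' U.1)
    (hsur : ∀ x ∈ U, ∃ y ∈ V, ProjectiveSpectrum.comap ψ hψ y = x) :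
    Function.Injective (GrMod.comapApp ψ hψ v hv n U V hUV) := fun s t h => by
  refine Subtype.ext (funext fun x => Subtype.ext ?_)
  obtain ⟨x, hx⟩ := x
  obtain ⟨y, hy, rfl⟩ := hsur x hx
  exact hinj y (congrArg (fun r : GrMod.sect ℬ 𝒩 n (op V) => (r.1 ⟨y, hy⟩).1) h)

include hc hloc hsurj heq in
theorem comapApp_bijective [IsOpenImmersion (Proj.map ψ hψ)] (n : ℤ)
    (U : Opens (ProjectiveSpectrum.top 𝒜)) (V : Opens (ProjectiveSpectrum.top ℬ))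
    (hUV : V.1 ⊆ ProjectiveSpectrum.comap ψ hψ ⁻¹' U.1)
    (hsur : ∀ x ∈ U, ∃ y ∈ V, ProjectiveSpectrum.comap ψ hψ y = x) :
    Function.Bijective (GrMod.comapApp ψ hψ v hv n U V hUV) := by
  refine ⟨comapApp_injective ψ hψ v hv (locModMap_injective ψ hψ v hloc heq) n U V hUV hsur, fun t => ?_⟩
  choose V' hV' i j a q hq hy hd he using
    fun y : V => exists_frac_preimage ψ hψ v hv hc hloc hsurj (V := V) t y
  choose g hg hgx using fun x : U => hsur x.1 x.2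
  let I : U → V := fun x => ⟨g x, hg x⟩
  have hI : ∀ x : U, (q (I x) : A) ∉ x.1.asHomogeneousIdeal := fun x => by
    have h := hq (I x) ⟨g x, hy (I x)⟩
    change (q (I x) : A) ∉ (ProjectiveSpectrum.comap ψ hψ (g x)).asHomogeneousIdeal at h
    rwa [hgx x] at h
  have hkey : ∀ (y₀ : V) (z : V' y₀) (x : U) (hzx : ProjectiveSpectrum.comap ψ hψ z.1 = x.1),
      (LocalizedModule.mk (a (I x) : M) ⟨q (I x), hI x⟩ : GrMod.LocMod 𝒜 (M := M) x.1) =
        LocalizedModule.mk (a y₀ : M) ⟨(q y₀ : A), hzx ▸ hq y₀ z⟩ := by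
    intro y₀ z ⟨x, hx⟩ hzx
    obtain rfl : ProjectiveSpectrum.comap ψ hψ z.1 = x := hzx
    have hgz : g ⟨_, hx⟩ = z.1 := (Proj.map ψ hψ).isOpenEmbedding.injective (hgx ⟨_, hx⟩)
    refine locModMap_injective ψ hψ v hloc heq z.1 ?_
    have h1 := he (I ⟨_, hx⟩) ⟨z.1, (congrArg (fun w => w ∈ V' (I ⟨_, hx⟩)) hgz).mp (hy (I ⟨_, hx⟩))⟩
    have h2 := he y₀ z
    exact h1.symm.trans h2
  refine ⟨⟨fun x => ⟨LocalizedModule.mk (a (I x) : M) ⟨q (I x), hI x⟩, ?_⟩, fun x => ?_⟩, ?_⟩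
  · rcases hd (I x) with h | h
    · exact Submodule.subset_span ⟨i (I x), j (I x), a (I x), q (I x), hI x, h, rfl⟩
    · rw [h, LocalizedModule.zero_mk]; exact zero_mem _
  · refine ⟨(Proj.map ψ hψ ''ᵁ V' (I x)) ⊓ U, ⟨⟨g x, hy (I x), hgx x⟩, x.2⟩, homOfLE inf_le_right,
      i (I x), j (I x), a (I x), q (I x), ?_, hd (I x), ?_⟩
    · rintro ⟨z, ⟨w, hw, hwz⟩, hz⟩
      obtain rfl : ProjectiveSpectrum.comap ψ hψ w = z := hwz
      exact hq (I x) ⟨w, hw⟩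
    · rintro ⟨z, hz'⟩
      obtain ⟨w, hw, hwz⟩ := hz'.1
      exact hkey (I x) ⟨w, hw⟩ ⟨z, hz'.2⟩ hwz
  · refine Subtype.ext (funext fun y => Subtype.ext ?_)
    rw [GrMod.comapApp_apply_coe]
    show GrMod.locModMap ψ hψ v y.1 (LocalizedModule.mk _ _) = _
    rw [hkey y ⟨y.1, hy y⟩ ⟨_, hUV y.2⟩ rfl]
    exact (he y ⟨y.1, hy y⟩).symm

end Groth.Agent.RelTildeX.TildeLoc
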