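import Groth.Agent.RelTildeX.Exists
import Groth.Agent.RelTildeX.Invertible
import Groth.Agent.RelTildeX.Glue
import Groth.Agent.RelTwistX.Tensor
import Groth.Agent.GrModX.TwistMul

/-!
# `ℳ~(n) = ℳ~ ⊗ O(n)` on a relative `Proj` generated in degree one
-/

noncomputable section

universe u

open CategoryTheory CategoryTheory.Limits AlgebraicGeometry TopologicalSpace Opposite
open scoped HomogeneousIdeal

set_option backward.isDefEq.respectTransparency false
set_option backward.isDefEq.respectTransparency.types false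
set_option linter.style.haveILetI false
set_option linter.unusedSectionVars false

namespace Groth.Agent.RelTildeX.Mul

open Groth.Agent
open Groth.Agent.RelTwistX (pre Idx)

variable {Y P : Scheme.{u}} {𝒮 : RelProj.QCGrAlg Y} {p : P ⟶ Y}
  {chart : ∀ (U : Y.Opens) (hU : IsAffineOpen U), (((p ⁻¹ᵁ U : P.Opens) : Scheme.{u}) ≅ Proj (𝒮.deg U hU))}
  {ℳ : RelProj.GrModule 𝒮} {m n q : ℤ} (h : m + n = q) {F L : P.Modules}
  {lam : ∀ (U : Y.Opens) (hU : IsAffineOpen U),
    F ⟶ (Scheme.Modules.pushforward (RelProj.emb p chart U hU)).obj (GrMod.tilde (𝒮.deg U hU) (ℳ.deg U hU) m)}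
  {lamL : ∀ (U : Y.Opens) (hU : IsAffineOpen U),
    L ⟶ (Scheme.Modules.pushforward (RelProj.emb p chart U hU)).obj (GrTwist.twist (𝒮.deg U hU) n)}
  (hP : RelProj.IsRelProj 𝒮 p chart) (hF : RelProj.IsRelTilde 𝒮 p chart ℳ m F lam)
  (hL : RelProj.IsRelTwist 𝒮 p chart n L lamL)

variable (lam lamL) in
/-- The product in one chart. -/
def chartMul (U : Y.Opens) (hU : IsAffineOpen U) {W : P.Opens} (s : Γ(F, W)) (l : Γ(L, W)) :
    Γ(GrMod.tilde (𝒮.deg U hU) (ℳ.deg U hU) q, pre p chart U hU W) :=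
  GrModX.mulSec h ((lam U hU).app W s) ((lamL U hU).app W l)

theorem val_chartMul (U : Y.Opens) (hU : IsAffineOpen U) {W : P.Opens} (s : Γ(F, W)) (l : Γ(L, W))
    (x : pre p chart U hU W) :
    GrMod.val (chartMul h lam lamL U hU s l) x =
      GrTwist.val (V := pre p chart U hU W) ((lamL U hU).app W l) x •
        GrMod.val (V := pre p chart U hU W) ((lam U hU).app W s) x := rfl

include hP hF hL in
theorem exists_mul {W : P.Opens} (s : Γ(F, W)) (l : Γ(L, W)) :
    ∃ t : Γ(Build.tilde hP ℳ q, W), ∀ U : Y.affineOpens,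
      (Build.lam hP ℳ q U.1 U.2).app W t = chartMul h lam lamL U.1 U.2 s l := by
  refine Build.exists_of_compat hP W _ fun ⟨⟨U, hU⟩, r⟩ => GrModX.ext_val _ _ fun y => ?_
  have hy' := RelTwistX.pre_le hP ⟨r, rfl⟩ hU (hU.basicOpen r) W y.2
  rw [Build.val_resApp, val_chartMul, val_chartMul, GrMod.locModMap_smul]
  rw [show GrMod.val (V := pre p chart (Y.basicOpen r) (hU.basicOpen r) W)
      ((lam (Y.basicOpen r) (hU.basicOpen r)).app W s) y = _ from hF.compat U hU r W s y.1 y.2 hy',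
    show GrTwist.val (V := pre p chart (Y.basicOpen r) (hU.basicOpen r) W)
      ((lamL (Y.basicOpen r) (hU.basicOpen r)).app W l) y = _ from hL.compat U hU r W l y.1 y.2 hy']

/-- The product. -/
def mul {W : P.Opens} (s : Γ(F, W)) (l : Γ(L, W)) : Γ(Build.tilde hP ℳ q, W) :=
  (exists_mul h hP hF hL s l).choose

theorem lam_mul {W : P.Opens} (s : Γ(F, W)) (l : Γ(L, W)) (U : Y.Opens) (hU : IsAffineOpen U) :
    (Build.lam hP ℳ q U hU).app W (mul h hP hF hL s l) = chartMul h lam lamL U hU s l :=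
  (exists_mul h hP hF hL s l).choose_spec ⟨U, hU⟩

/-- The pairing. -/
def bilin : H23.TensorDesc.Bilin F L (Build.tilde hP ℳ q) where
  b U s l := mul h hP hF hL s l
  add_left W s s' l := Build.lam_ext hP W _ _ fun U hU => by
    rw [map_add, lam_mul, lam_mul, lam_mul]
    unfold chartMul
    rw [map_add]
    exact (GrModX.mulBilin _ _ h).add_left _ _ _ _
  smul_left W r s l := Build.lam_ext hP W _ _ fun U hU => by
    rw [Scheme.Modules.Hom.app_smul, lam_mul, lam_mul]
    unfold chartMul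
    rw [Scheme.Modules.Hom.app_smul]
    exact (GrModX.mulBilin _ _ h).smul_left _ ((RelProj.emb p chart U hU).app W r) _ _
  add_right W s l l' := Build.lam_ext hP W _ _ fun U hU => by
    rw [map_add, lam_mul, lam_mul, lam_mul]
    unfold chartMul
    rw [map_add]
    exact (GrModX.mulBilin _ _ h).add_right _ _ _ _
  smul_right W r s l := Build.lam_ext hP W _ _ fun U hU => by
    rw [Scheme.Modules.Hom.app_smul, lam_mul, lam_mul]
    unfold chartMul
    rw [Scheme.Modules.Hom.app_smul]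
    exact (GrModX.mulBilin _ _ h).smul_right _ ((RelProj.emb p chart U hU).app W r) _ _
  res {W W'} i s l := Build.lam_ext hP W' _ _ fun U hU => by
    rw [lam_mul, QCoh.map_app_comm, lam_mul]
    unfold chartMul
    rw [QCoh.map_app_comm, QCoh.map_app_comm]
    rfl

include h hP hF hL in
theorem nonempty_tensor_iso (hgen : 𝒮.IsGenDegOne) (hℳ : Coh.IsQCoh ((AMod.toOS 𝒮.toQCAlg).obj ℳ.mod)) :
    Nonempty (CohB1.tensorMod F L ≅ Build.tilde hP ℳ q) := by
  refine ⟨@asIso _ _ _ _ (H23.TensorDesc.desc (bilin h hP hF hL))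
    (InvX.isIso_desc_of_frames (RelTildeX.isQCoh hF) (RelTildeX.isQCoh_twist hL) _ fun V x hx => ?_)⟩
  obtain ⟨_, ⟨U, hU, rfl⟩, hxU, -⟩ := Y.isBasis_affineOpens.exists_subset_of_mem_open
    (Set.mem_univ (p x)) isOpen_univ
  have hxr : x ∈ (RelProj.emb p chart U hU).opensRange := by rw [opensRange_emb]; exact hxU
  obtain ⟨y, rfl⟩ := hxr
  obtain ⟨W₀, g, hg, hW₀V, hyW₀, hW₀, hnv⟩ := GrModX.exists_nhd (irrelevant_eq_span_deg_one hgen U hU)
    (V := RelProj.emb p chart U hU ⁻¹ᵁ V) (x := y) hx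
  let W := RelProj.emb p chart U hU ''ᵁ W₀
  have hWU : W ≤ p ⁻¹ᵁ U := (opensRange_emb p chart U hU).le.trans' (Scheme.Hom.image_le_opensRange _ _)
  have hpre : pre p chart U hU W = W₀ := Scheme.Hom.preimage_image_eq _ _
  have hnv' : GrTwistX.NonVan (𝒜 := 𝒮.deg U hU) g (pre p chart U hU W) := hpre.symm ▸ hnv
  obtain ⟨e, he, hee⟩ := RelTwistX.exists_frame_chart hL hU hWU (RelTwistX.zFrac hg n hnv')
  refine ⟨W, e, ((RelProj.emb p chart U hU).image_mono hW₀V).trans (Scheme.Hom.image_preimage_le _ V),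
    ⟨y, hyW₀, rfl⟩, hW₀.image_of_isOpenImmersion _, he, ?_⟩
  refine (Function.Bijective.of_comp_iff' ((Build.isRelTilde (n := q) hP hℳ).bijective U hU W hWU) _).1 ?_
  have e1 : ((Build.lam hP ℳ q U hU).app W) ∘ (fun s : Γ(F, W) => (bilin h hP hF hL).b W s e) =
      (fun s => GrModX.mulSec h s (GrTwistX.fracSect (RelTwistX.zFrac hg n hnv'))) ∘ ((lam U hU).app W) :=
    funext fun s => (lam_mul h hP hF hL s e U hU).trans (by unfold chartMul; rw [hee]; rfl)
  rw [e1]
  exact (GrModX.mulSec_frame_bijective h hg hnv').comp (hF.bijective U hU W hWU)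

theorem nonempty_iso_build {F' : P.Modules} {lam' : ∀ (U : Y.Opens) (hU : IsAffineOpen U),
    F' ⟶ (Scheme.Modules.pushforward (RelProj.emb p chart U hU)).obj (GrMod.tilde (𝒮.deg U hU) (ℳ.deg U hU) q)}
    (hℳ : Coh.IsQCoh ((AMod.toOS 𝒮.toQCAlg).obj ℳ.mod)) (hF' : RelProj.IsRelTilde 𝒮 p chart ℳ q F' lam') :
    Nonempty (Build.tilde hP ℳ q ≅ F') := by
  have hB := Build.isRelTilde (n := q) hP hℳ
  have hid : ∀ {G G' : P.Modules} (a : ∀ (U : Y.Opens) (hU : IsAffineOpen U),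
      G ⟶ (Scheme.Modules.pushforward (RelProj.emb p chart U hU)).obj (GrMod.tilde (𝒮.deg U hU) (ℳ.deg U hU) q))
      (b : ∀ (U : Y.Opens) (hU : IsAffineOpen U),
      G' ⟶ (Scheme.Modules.pushforward (RelProj.emb p chart U hU)).obj (GrMod.tilde (𝒮.deg U hU) (ℳ.deg U hU) q)),
      RelProj.IsRelTilde 𝒮 p chart ℳ q G a → RelProj.IsRelTilde 𝒮 p chart ℳ q G' b →
      ∃! φ : G ⟶ G', ∀ (U : Y.Opens) (hU : IsAffineOpen U), φ ≫ b U hU = a U hU := fun a b ha hb => by
    have hid' : ∀ (U : Y.Opens) (hU : IsAffineOpen U), a U hU ≫ (Scheme.Modules.pushforward (RelProj.emb p chart U hU)).map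
        (𝟙 (GrMod.tilde (𝒮.deg U hU) (ℳ.deg U hU) q)) = a U hU := fun U hU => by
      rw [CategoryTheory.Functor.map_id, Category.comp_id]
    simpa only [hid'] using RelTildeX.existsUnique_hom hP ha hb RelTildeX.isPointwise_id
  obtain ⟨φ, hφ, -⟩ := hid _ _ hB hF'
  obtain ⟨ψ, hψ, -⟩ := hid _ _ hF' hB
  exact ⟨⟨φ, ψ, (hid _ _ hB hB).unique (fun U hU => by rw [Category.assoc, hψ, hφ]) (fun U hU => Category.id_comp _),
    (hid _ _ hF' hF').unique (fun U hU => by rw [Category.assoc, hφ, hψ]) (fun U hU => Category.id_comp _)⟩⟩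

end Groth.Agent.RelTildeX.Mul
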